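import Groth.Agent.GITss.StabDim
import Groth.Agent.GrpAct.OrbitDim
import Groth.Agent.S16130

/-!
The rational points with small orbits form a closed set.
-/

set_option autoImplicit false
set_option backward.isDefEq.respectTransparency false
set_option linter.style.haveILetI false

universe u

open CategoryTheory CategoryTheory.Limits MonoidalCategory CartesianMonoidalCategory MonObj GrpObj AlgebraicGeometry
open TopologicalSpace Groth.Agent.GrpAct Groth.Agent.Unibranch
open Groth.Agent

noncomputable section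

namespace Groth.Agent.AgfOrbitDim

variable {k : Type u} [Field k] {G X : Over (Spec (CommRingCat.of k))} [GrpObj G]
  [LocallyOfFiniteType G.hom] [QuasiCompact G.hom]
  [LocallyOfFiniteType X.hom] [QuasiCompact X.hom] [QuasiSeparatedSpace X.left]
  (a : AlgGrp.Action G X) (x : 𝟙_ (Over (Spec (CommRingCat.of k))) ⟶ X)

theorem dim_closure_orbit :
    topologicalKrullDim ↥(closure (orbit a x)) = topologicalKrullDim ↥(orbit a x) := by
  haveI : Subsingleton (Spec (CommRingCat.of k)) := inferInstanceAs (Subsingleton (PrimeSpectrum k))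
  obtain ⟨_, _⟩ := orbitMap_props a x
  let p := IsLocalRing.closedPoint k
  have hfib : ∀ A : Set X.left, topologicalKrullDim ↥A = topologicalKrullDim ↥(A ∩ X.hom ⁻¹' {p}) := by
    intro A
    rw [show A ∩ X.hom ⁻¹' {p} = A from Set.inter_eq_left.2 fun y _ =>
      Subsingleton.elim (α := Spec (CommRingCat.of k)) _ _]
  refine le_antisymm (Unibranch.le_of_forall_natCast_le fun m hm => ?_)
    (Topology.IsEmbedding.inclusion subset_closure).isInducing.topologicalKrullDim_le
  rw [hfib, natCast_le_topologicalKrullDim_inter_iff X.hom isClosed_closure.isLocallyClosed] at hm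
  rw [hfib, natCast_le_topologicalKrullDim_inter_iff X.hom (isLocallyClosed_orbit' a x)]
  obtain ⟨c, hc, hc'⟩ := hm
  obtain ⟨g, hg⟩ := DomLib.exists_specializes (a.orbitMap x).left (hc 0).1
  set ζ := (a.orbitMap x).left g
  obtain ⟨U, C, hU, hC, e⟩ := isLocallyClosed_orbit' a x
  have hζ : ζ ∈ U ∩ C := e ▸ ⟨g, rfl⟩
  have h : HasChain X.hom (closure {ζ}) p m :=
    ⟨c, fun i => ⟨specializes_iff_mem_closure.1 (hg.trans (specializes_of_chain c hc' i)),
      Subsingleton.elim _ _⟩, hc'⟩
  rw [show p = X.hom ζ from Subsingleton.elim (α := Spec (CommRingCat.of k)) _ _] at h ⊢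
  refine (h.of_specializes (U := ⟨U, hU⟩) specializes_rfl hζ.1).mono fun y hy => ?_
  rw [e]
  exact ⟨hy.1, closure_minimal (Set.singleton_subset_iff.2 hζ.2) hC hy.2⟩

theorem sdim_rpt [IsAlgClosed k] [IsSeparated X.hom] :
    GITss.sdim a (x.left (IsLocalRing.closedPoint k)) =
      topologicalKrullDim ↥(Limits.pullback (a.orbitMap x).left x.left) := by
  haveI : Subsingleton (Spec (CommRingCat.of k)) := inferInstanceAs (Subsingleton (PrimeSpectrum k))
  haveI : Subsingleton ↥(𝟙_ (Over (Spec (CommRingCat.of k)))).left :=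
    inferInstanceAs (Subsingleton ↥(Spec (CommRingCat.of k)))
  obtain ⟨m, sq⟩ := GITss.exists_isPullback_stab a x
  -- the fibre of the stabiliser family
  have hrange : Set.range m = GLinSh.stabTo a (𝟙 X) ⁻¹' {x.left (IsLocalRing.closedPoint k)} := by
    ext z
    refine ⟨?_, fun hz => ?_⟩
    · rintro ⟨y, rfl⟩
      show GLinSh.stabTo a (𝟙 X) (m y) = _
      rw [← Scheme.Hom.comp_apply, sq.w, Scheme.Hom.comp_apply]
      exact congrArg x.left (Subsingleton.elim _ _)
    · obtain ⟨y, hy, -⟩ := Scheme.exists_preimage_of_isPullback sq z (IsLocalRing.closedPoint k) hz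
      exact ⟨y, hy⟩
  haveI : IsClosedImmersion x.left := by
    haveI : IsClosedImmersion (x.left ≫ X.hom) := by
      rw [Over.w]; exact inferInstanceAs (IsClosedImmersion (𝟙 (Spec (CommRingCat.of k))))
    exact IsClosedImmersion.of_comp x.left X.hom
  haveI : IsClosedImmersion m := MorphismProperty.of_isPullback (P := @IsClosedImmersion) sq.flip inferInstance
  rw [GITss.sdim_eq, ← hrange, ← IsHomeomorph.topologicalKrullDim_eq _ m.isEmbedding.toHomeomorph.isHomeomorph]
  -- the stabiliser of the point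
  have hq : IsPullback (pullback.fst (GIT.psi a x).left (lift x (𝟙 _)).left ≫ (fst G (𝟙_ _)).left)
      (GLinSh.stabTo a x) (a.orbitMap x).left x.left := by
    refine IsPullback.of_iso (IsPullback.of_hasPullback (GIT.psi a x).left (lift x (𝟙 _)).left) (Iso.refl _)
      ((Over.forget _).mapIso (ρ_ G)) (Iso.refl _) ((Over.forget _).mapIso (ρ_ X))
      (by simp [rightUnitor_hom]) (by simp [GLinSh.stabTo]) ?_ (by
        simp only [Functor.mapIso_hom, Over.forget_map, Iso.refl_hom, Category.id_comp, ← Over.comp_left,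
          rightUnitor_hom, lift_fst])
    simp only [Functor.mapIso_hom, Over.forget_map, ← Over.comp_left, rightUnitor_hom]
    congr 1
    rw [GIT.psi, lift_fst, GrpAct.comp_orbitMap, toUnit_unique (toUnit (G ⊗ 𝟙_ _)) (snd G (𝟙_ _))]
    congr 1
    all_goals (apply CartesianMonoidalCategory.hom_ext <;> simp)
  exact IsHomeomorph.topologicalKrullDim_eq _ hq.isoPullback.hom.homeomorph.isHomeomorph

theorem exists_closed_dim_le [IsAlgClosed k] [Smooth G.hom] [IsReduced X.left] [IsSeparated X.hom] (r : ℕ) :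
    ∃ Z : Set ↥X.left, IsClosed Z ∧
      ∀ x : 𝟙_ (Over (Spec (CommRingCat.of k))) ⟶ X,
        topologicalKrullDim ↥(closure (Set.range ⇑(a.orbitMap x).left.base)) ≤ (r : WithBot ℕ∞) ↔
          Set.range ⇑x.left.base ⊆ Z := by
  haveI : Subsingleton ↥(𝟙_ (Over (Spec (CommRingCat.of k)))).left :=
    inferInstanceAs (Subsingleton (PrimeSpectrum k))
  obtain ⟨dG, hG⟩ := GITss.exists_dim_eq (G := G)
  refine ⟨{y | ((dG - r : ℕ) : WithBot ℕ∞) ≤ GITss.sdim a y}, GITss.isClosed_le_sdim a _, fun x => ?_⟩
  obtain ⟨m, hm, -⟩ := GITss.exists_sdim_le a (x.left (IsLocalRing.closedPoint k))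
  have h := Groth.Agent.S16130.main a x
  rw [hG, ← sdim_rpt, hm] at h
  have hm' : topologicalKrullDim ↥(closure (Set.range ⇑(a.orbitMap x).left.base)) ≤ (r : WithBot ℕ∞) ↔
      dG - r ≤ m := by
    rw [show topologicalKrullDim ↥(closure (Set.range ⇑(a.orbitMap x).left.base)) = _ from dim_closure_orbit a x]
    generalize topologicalKrullDim ↥(Set.range (a.orbitMap x).left.base) = D at h ⊢
    induction D with
    | bot => simp at h
    | coe D =>
      induction D with
      | top =>
        rw [show ((⊤ : ℕ∞) : WithBot ℕ∞) + (m : WithBot ℕ∞) = ((⊤ + m : ℕ∞) : WithBot ℕ∞) from rfl, top_add] at h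
        exact absurd (WithBot.coe_eq_coe.1 h) (ENat.natCast_ne_top dG)
      | coe D =>
        have h' : dG = D + m := by exact_mod_cast h
        rw [show ((D : ℕ∞) : WithBot ℕ∞) ≤ (r : WithBot ℕ∞) ↔ D ≤ r from GITss.natCast_le_iff]
        omega
  rw [hm']
  constructor
  · rintro hle _ ⟨y, rfl⟩
    show ((dG - r : ℕ) : WithBot ℕ∞) ≤ GITss.sdim a (x.left y)
    rw [show y = IsLocalRing.closedPoint k from Subsingleton.elim _ _, hm]
    exact GITss.natCast_le_iff.2 hle
  · intro hsub
    have := hsub ⟨IsLocalRing.closedPoint k, rfl⟩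
    rw [Set.mem_ofPred_eq, hm] at this
    exact GITss.natCast_le_iff.1 this

end Groth.Agent.AgfOrbitDim
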